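import Groth.Agent.Etbc.H211.PrimTors
import Groth.Agent.EtpbcA.CdEtLeray

/-!
# Leray bounds for the ℓ-cohomological dimension

`cohDimLEAt_of_Rpush`: if `R^q f_* F = 0` for `q > a` and every `ℓ`-primary torsion `F` and `cd_ℓ(Y) ≤ b`, then
`cd_ℓ(X) ≤ a + b` (for `f` qcqs); `cohDimLEAt_of_relCohDimLE` is the special case of `RelCohDimLE f a`.
-/

set_option autoImplicit false
universe u

open CategoryTheory CategoryTheory.Limits AlgebraicGeometry Opposite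

namespace Groth.Agent.Etbc.H211.PrimLeray

open Groth.Agent.EtpbcA Groth.Agent.Etbc.H211.PrimTors

variable {X Y : Scheme.{u}} (ℓ : ℕ) (f : X ⟶ Y)

/-- A version for a single sheaf. -/
theorem H_subsingleton_of_leray_bound [QuasiCompact f] [QuasiSeparated f]
    (a b : ℕ) (F : EtCoh.Ab X) (hF : _root_.Dix.IsPrimaryTorsion ℓ F)
    (ha : ∀ q, a < q → IsZero ((EtCoh.Rpush f q).obj F))
    (hb : _root_.Dix.CohDimLEAt Y ℓ b) (n : ℕ) (hn : a + b < n) :
    Subsingleton (EtCoh.H X F n) := by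
  refine CdEtLeray.H_subsingleton_of_leray f F n
    (hb _ (isPrimaryTorsion_push ℓ f F hF) n (by omega)) fun p q hpq => ?_
  by_cases hq : a < q + 1
  · exact CdEtLeray.H_subsingleton_of_isZero (ha (q + 1) hq) p
  · exact hb _ (isPrimaryTorsion_Rpush ℓ f F hF (q + 1)) p (by omega)

theorem cohDimLEAt_of_Rpush [QuasiCompact f] [QuasiSeparated f] (a b : ℕ)
    (ha : ∀ F : EtCoh.Ab X, _root_.Dix.IsPrimaryTorsion ℓ F → ∀ q, a < q →
      IsZero ((EtCoh.Rpush f q).obj F))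
    (hb : _root_.Dix.CohDimLEAt Y ℓ b) : _root_.Dix.CohDimLEAt X ℓ (a + b) :=
  fun F hF n hn => H_subsingleton_of_leray_bound ℓ f a b F hF (ha F hF) hb n hn

/-- `cd(f) ≤ a` and `cd_ℓ(Y) ≤ b` imply `cd_ℓ(X) ≤ a + b`. -/
theorem cohDimLEAt_of_relCohDimLE {ℓ : ℕ} (hℓ : 0 < ℓ) [QuasiCompact f] [QuasiSeparated f] (a b : ℕ)
    (ha : EtCoh.RelCohDimLE f a)
    (hb : _root_.Dix.CohDimLEAt Y ℓ b) : _root_.Dix.CohDimLEAt X ℓ (a + b) :=
  cohDimLEAt_of_Rpush ℓ f a b (fun F hF q hq => ha F (isTorsion_of_isPrimaryTorsion hℓ hF) q hq) hb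

end Groth.Agent.Etbc.H211.PrimLeray
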