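import Groth.Prelude.Def_Dix
import Groth.Agent.Etcore.Torsion
import Groth.Agent.EtpbcA.TorsColim
import Groth.Agent.EtpbcA.RpushTors
import Groth.Agent.S0124

/-!
# ℓ-primary torsion sheaves: stalks, inverse images, cohomology, higher direct images

* `isPrimaryTorsion_iff_stalk`, `isPrimaryTorsion_pull`, `isTorsion_of_isPrimaryTorsion`;
* `exists_pow_smul_eq_zero_of_compact`: sections over quasi-compact `U` are killed by a power of `ℓ`;
* `H_isPrimary`: for `X` qcqs, each class in `H^n(X, F)` is killed by a power of `ℓ`;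
* `isPrimaryTorsion_Rpush`: for `f` qcqs, `R^n f_* F` is `ℓ`-primary torsion.
-/

set_option autoImplicit false
universe u v w

open CategoryTheory CategoryTheory.Limits AlgebraicGeometry Opposite
open scoped ZeroObject

namespace Groth.Agent.Etbc.H211.PrimTors

open Groth.Agent.Etbase Groth.Agent.EtpbcA.SectCoh Groth.Agent.Etcore.Torsion
open Groth.Agent.EtpbcA.RpushTors

variable {X Y : Scheme.{u}} (ℓ : ℕ)

theorem isPrimaryTorsion_iff_stalk (F : EtCoh.Ab X) :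
    _root_.Dix.IsPrimaryTorsion ℓ F ↔
      ∀ (Ω : Type u) [Field Ω] [IsSepClosed Ω] (ξ : Spec (CommRingCat.of Ω) ⟶ X)
        (t : (EtCoh.stalk ξ).obj F), ∃ n : ℕ, (∃ k, n = ℓ ^ k) ∧ n • t = 0 := by
  rw [← local_iff_stalk]
  constructor
  · intro h U s x
    obtain ⟨V, g, hv, k, hk⟩ := h U s x
    exact ⟨V, g, ℓ ^ k, hv, ⟨k, rfl⟩, hk⟩
  · intro h U s x
    obtain ⟨V, g, n, hv, ⟨k, rfl⟩, h0⟩ := h U s x
    exact ⟨V, g, hv, k, h0⟩

/-- The inverse image of an `ℓ`-primary torsion sheaf is `ℓ`-primary torsion. -/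
theorem isPrimaryTorsion_pull (f : X ⟶ Y) (F : EtCoh.Ab Y) (hF : _root_.Dix.IsPrimaryTorsion ℓ F) :
    _root_.Dix.IsPrimaryTorsion ℓ ((EtCoh.pull f).obj F) := by
  rw [isPrimaryTorsion_iff_stalk] at hF ⊢
  exact stalk_prop_pull _ f F hF

/-- `ℓ`-primary torsion sheaves are torsion, for `ℓ > 0`. -/
theorem isTorsion_of_isPrimaryTorsion {ℓ : ℕ} (hℓ : 0 < ℓ) {F : EtCoh.Ab X}
    (hF : _root_.Dix.IsPrimaryTorsion ℓ F) : EtCoh.IsTorsion F := by
  intro U s x
  obtain ⟨V, g, hv, k, hk⟩ := hF U s x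
  exact ⟨V, g, hv, isOfFinAddOrder_iff_nsmul_eq_zero.2 ⟨ℓ ^ k, pow_pos hℓ k, hk⟩⟩

theorem isPrimaryTorsion_of_iso {ℓ : ℕ} {F G : EtCoh.Ab X} (e : F ≅ G)
    (h : _root_.Dix.IsPrimaryTorsion ℓ F) : _root_.Dix.IsPrimaryTorsion ℓ G := by
  intro U s x
  obtain ⟨V, g, hv, k, hk⟩ := h U (e.inv.hom.app (op U) s) x
  refine ⟨V, g, hv, k, ?_⟩
  apply injective_of_mono e.inv V
  rw [map_nsmul, map_zero]
  have := NatTrans.naturality_apply e.inv.hom g.op s
  exact (congrArg (fun t => ℓ ^ k • t) this).trans hk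

/-- Sections of an `ℓ`-primary torsion sheaf over a quasi-compact etale scheme are killed by a power
of `ℓ`. -/
theorem exists_pow_smul_eq_zero_of_compact (F : EtCoh.Ab X) (hF : _root_.Dix.IsPrimaryTorsion ℓ F)
    (U : X.Etale) [CompactSpace U.left] (s : EtCoh.sect F U) : ∃ m : ℕ, (ℓ ^ m) • s = 0 := by
  let W : ℕ → Set U.left := fun m => {x | EtSections.VanishesAt F U ((ℓ ^ m) • s) x}
  have hW : ∀ m, IsOpen (W m) := fun m => EtSections.isOpen_vanishesAt F U _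
  have hcov : (⋃ m, W m) = Set.univ := by
    rw [Set.eq_univ_iff_forall]
    intro x
    obtain ⟨V, g, ⟨v, hv⟩, k, hg⟩ := hF U s x
    refine Set.mem_iUnion.2 ⟨k, V, g, v, hv, ?_⟩
    rw [map_nsmul]
    exact hg
  obtain ⟨T, hT⟩ := isCompact_univ.elim_finite_subcover W hW (by rw [hcov])
  refine ⟨T.sup id, ?_⟩
  apply EtSections.eq_zero_of_vanishesAt F U
  intro x
  obtain ⟨m, hm⟩ := Set.mem_iUnion.1 (hT (Set.mem_univ x))
  obtain ⟨hmT, V, g, v, hv, h0⟩ := Set.mem_iUnion.1 hm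
  refine ⟨V, g, v, hv, ?_⟩
  obtain ⟨c, hc⟩ := Nat.exists_eq_add_of_le (Finset.le_sup (f := id) hmT)
  rw [hc, pow_add, mul_comm, mul_smul, map_nsmul]
  simp only [id]
  rw [h0, smul_zero]

section general

variable {C : Type v} [Category.{w} C] [Preadditive C]

/-- The diagram `F → F → F → ...` with transition maps multiplication by `ℓ ^ (k - n)`. -/
def powDiag (ℓ : ℕ) (F : C) : ℕ ⥤ C where
  obj _ := F
  map {n k} _ := (ℓ ^ (k - n)) • 𝟙 F
  map_id n := by simp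
  map_comp {i j k} f g := by
    have hij : i ≤ j := leOfHom f
    have hjk : j ≤ k := leOfHom g
    rw [Preadditive.nsmul_comp, Preadditive.comp_nsmul, Category.comp_id, smul_smul, ← pow_add]
    congr 2
    omega

/-- If every cocone of `powDiag ℓ F` is zero then the zero object is a colimit. -/
noncomputable def isColimitZero (ℓ : ℕ) (F : C) [HasZeroObject C]
    (h : ∀ (Y : C) (f : ℕ → (F ⟶ Y)), (∀ n k, n ≤ k → f n = (ℓ ^ (k - n)) • f k) →
      ∀ n, f n = 0) :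
    IsColimit ({ pt := 0, ι := { app := fun _ => 0 } } : Cocone (powDiag ℓ F)) where
  desc s := 0
  fac s n := by
    rw [Limits.comp_zero]
    symm
    refine h s.pt (fun n => s.ι.app n) (fun n k hnk => ?_) n
    exact (s.w (homOfLE hnk)).symm.trans
      (Groth.Agent.EtpbcA.TorsColim.nsmul_id_comp (F := F) (Y := s.pt) _ _)
  uniq s m _ := (HasZeroObject.from_zero_ext m 0)

theorem isPrimary_of_cocones_zero (ℓ : ℕ) [HasZeroObject C] (F : C)
    (h : ∀ (Y : C) (f : ℕ → (F ⟶ Y)), (∀ n k, n ≤ k → f n = (ℓ ^ (k - n)) • f k) →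
      ∀ n, f n = 0)
    (G : C ⥤ AddCommGrpCat.{u}) [G.Additive] [PreservesColimitsOfShape ℕ G] (x : G.obj F) :
    ∃ k : ℕ, (ℓ ^ k) • x = 0 := by
  have hc := isColimitOfPreserves G (isColimitZero ℓ F h)
  have hz : IsZero (G.obj (0 : C)) := G.map_isZero (isZero_zero C)
  have : PreservesFilteredColimitsOfSize.{0, 0} (forget AddCommGrpCat.{u}) :=
    preservesSmallestFilteredColimits_of_preservesFilteredColimits _
  obtain ⟨k, f, g, hk⟩ := Concrete.isColimit_exists_of_rep_eq.{u} (powDiag ℓ F ⋙ G) hc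
    (i := 0) (j := 0) x 0 (by
    have := AddCommGrpCat.subsingleton_of_isZero hz
    exact Subsingleton.elim (α := (G.obj (0 : C))) _ _)
  refine ⟨k, ?_⟩
  have h1 : (powDiag ℓ F ⋙ G).map f = (ℓ ^ k) • 𝟙 (G.obj F) := by
    change G.map ((ℓ ^ (k - 0)) • 𝟙 F) = _
    rw [Nat.sub_zero, Functor.map_nsmul, G.map_id]
  rw [h1] at hk
  have h2 : (AddCommGrpCat.Hom.hom ((powDiag ℓ F ⋙ G).map g)) 0 = 0 := map_zero _
  exact hk.trans h2

end general

/-- Cocones on the multiplication diagram of an `ℓ`-primary torsion sheaf vanish. -/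
theorem cocones_zero (F : EtCoh.Ab X) (hF : _root_.Dix.IsPrimaryTorsion ℓ F) (Y : EtCoh.Ab X)
    (f : ℕ → (F ⟶ Y)) (hf : ∀ n k, n ≤ k → f n = (ℓ ^ (k - n)) • f k) (n : ℕ) :
    f n = 0 := by
  ext U s
  refine Groth.Agent.Etbase.EtSite.sect_eq_zero Y U.unop _ (fun x => ?_)
  obtain ⟨V, g, ⟨v, hv⟩, m, hgm⟩ := hF U.unop s x
  refine ⟨V, g, v, hv, ?_⟩
  have h3 : f n = (ℓ ^ m) • f (n + m) := by
    rw [hf n (n + m) (Nat.le_add_right n m), Nat.add_sub_cancel_left]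
  have h4 : Y.obj.map g.op ((f n).hom.app U s) = (f n).hom.app (op V) (F.obj.map g.op s) :=
    (NatTrans.naturality_apply (f n).hom g.op s).symm
  refine h4.trans ?_
  have h5 : (f n).hom.app (op V) (F.obj.map g.op s) =
      (ℓ ^ m) • (f (n + m)).hom.app (op V) (F.obj.map g.op s) := by
    rw [h3]
    rfl
  rw [h5, ← map_nsmul, hgm, map_zero]

/-- An additive functor from etale sheaves to abelian groups which preserves sequential colimits sends
`ℓ`-primary torsion sheaves to `ℓ`-primary torsion groups. -/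
theorem isPrimary_of_preserves (F : EtCoh.Ab X) (hF : _root_.Dix.IsPrimaryTorsion ℓ F)
    (G : EtCoh.Ab X ⥤ AddCommGrpCat.{u + 1}) [G.Additive] [PreservesColimitsOfShape ℕ G]
    (x : G.obj F) : ∃ k : ℕ, (ℓ ^ k) • x = 0 :=
  isPrimary_of_cocones_zero ℓ F (fun Y f hf n => cocones_zero ℓ F hF Y f hf n) G x

/-- The cohomology of an `ℓ`-primary torsion sheaf on a qcqs scheme is `ℓ`-primary torsion. -/
theorem H_isPrimary [CompactSpace X] [QuasiSeparatedSpace X]
    (F : EtCoh.Ab X) (hF : _root_.Dix.IsPrimaryTorsion ℓ F) (n : ℕ) (x : EtCoh.H X F n) :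
    ∃ k : ℕ, (ℓ ^ k) • x = 0 := by
  have := Groth.Agent.S0124.additive_HF X n
  have := Groth.Agent.S0124.preservesNat X n
  exact isPrimary_of_preserves ℓ F hF (EtCoh.HF X n) x

/-- Criterion for a homology sheaf to be `ℓ`-primary torsion. -/
theorem isPrimaryTorsion_homology (K : CochainComplex (EtCoh.Ab Y) ℕ) (n : ℕ)
    (h : ∀ V : Y.Etale, IsAffine V.left → ∀ z : EtCoh.sect (K.X (n + 1)) V,
      (K.d (n + 1) (n + 1 + 1)).hom.app (op V) z = 0 → ∃ m : ℕ, ∃ y : EtCoh.sect (K.X n) V,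
        (K.d n (n + 1)).hom.app (op V) y = (ℓ ^ m) • z) :
    _root_.Dix.IsPrimaryTorsion ℓ (K.homology (n + 1)) := by
  intro U s x
  obtain ⟨V, g, v, hV, hv, t, ht⟩ := exists_cycle_section K (n + 1) U s x
  refine ⟨V, g, ⟨v, hv⟩, ?_⟩
  obtain ⟨m, y, hy⟩ := h V hV ((K.iCycles (n + 1)).hom.app (op V) t) (iCycles_d_app K (n + 1) V t)
  refine ⟨m, ?_⟩
  rw [← ht, ← map_nsmul]
  refine homologyπ_eq_zero K n V ((ℓ ^ m) • t) y ?_
  rw [map_nsmul]
  exact hy

/-- Criterion for `R^{n+1} f_* F` to be `ℓ`-primary torsion. -/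
theorem isPrimaryTorsion_Rpush_succ (f : X ⟶ Y) (F : EtCoh.Ab X) (n : ℕ)
    (h : ∀ V : Y.Etale, IsAffine V.left → ∀ x :
      (EtCoh.H ((EtCoh.bc f).obj V).left ((EtCoh.pull ((EtCoh.bc f).obj V).hom).obj F) (n + 1)),
      ∃ k : ℕ, (ℓ ^ k) • x = 0) :
    _root_.Dix.IsPrimaryTorsion ℓ ((EtCoh.Rpush f (n + 1)).obj F) := by
  let I : InjectiveResolution F := injectiveResolution F
  have key : _root_.Dix.IsPrimaryTorsion ℓ
      ((((EtCoh.push f).mapHomologicalComplex (ComplexShape.up ℕ)).obj I.cocomplex).homology (n + 1)) := by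
    refine isPrimaryTorsion_homology ℓ _ n (fun V hV z hz => ?_)
    obtain ⟨m, hgm⟩ := h V hV (cls I ((EtCoh.bc f).obj V) (n + 1) ⟨z, hz⟩)
    rw [← map_nsmul, cls_eq_zero_iff] at hgm
    obtain ⟨y, hy⟩ := hgm
    exact ⟨m, y, hy⟩
  exact isPrimaryTorsion_of_iso (I.isoRightDerivedObj (EtCoh.push f) (n + 1)).symm key

/-- `f_* F` is `ℓ`-primary torsion for `F` `ℓ`-primary torsion and `f` quasi-compact. -/
theorem isPrimaryTorsion_push (f : X ⟶ Y) [QuasiCompact f] (F : EtCoh.Ab X)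
    (hF : _root_.Dix.IsPrimaryTorsion ℓ F) :
    _root_.Dix.IsPrimaryTorsion ℓ ((EtCoh.push f).obj F) := by
  intro U s x
  obtain ⟨V, g, hV, -, v, hv⟩ := Groth.Agent.Etrest.Site0.exists_affine U x
  refine ⟨V, g, ⟨v, hv⟩, ?_⟩
  have := compactSpace_bc f V hV
  exact exists_pow_smul_eq_zero_of_compact ℓ F hF ((EtCoh.bc f).obj V) _

/-- `R^n f_* F` is `ℓ`-primary torsion for `F` `ℓ`-primary torsion and `f` qcqs. -/
theorem isPrimaryTorsion_Rpush (f : X ⟶ Y) [QuasiCompact f] [QuasiSeparated f] (F : EtCoh.Ab X)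
    (hF : _root_.Dix.IsPrimaryTorsion ℓ F) (n : ℕ) :
    _root_.Dix.IsPrimaryTorsion ℓ ((EtCoh.Rpush f n).obj F) := by
  cases n with
  | zero =>
    exact isPrimaryTorsion_of_iso ((EtCoh.push f).rightDerivedZeroIsoSelf.symm.app F)
      (isPrimaryTorsion_push ℓ f F hF)
  | succ n =>
    refine isPrimaryTorsion_Rpush_succ ℓ f F n (fun V hV => ?_)
    have := compactSpace_bc f V hV
    have := quasiSeparatedSpace_bc f V hV
    exact H_isPrimary ℓ _ (isPrimaryTorsion_pull ℓ _ F hF) (n + 1)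

end Groth.Agent.Etbc.H211.PrimTors
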