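import Groth.Agent.Etbc.H211.WeakApprox
import Groth.Agent.Etbc.H197.C1
import Mathlib.RingTheory.DedekindDomain.Factorization
import Mathlib.RingTheory.Ideal.Norm.AbsNorm

/-!
# The product formula for the local indices at the finite places

`C1prime`: for a number field `K` containing a primitive `ℓ`-th root of unity and a finite set `S` of finite
places containing the places above `ℓ`, the product over `v ∈ S` of the indices of the subgroups of `ℓ`-th powers
of the multiplicative groups of the completions is `ℓ ^ (2 #S + [K : ℚ])`.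
-/

set_option autoImplicit false
universe u
open NumberField IsDedekindDomain Filter

namespace Groth.Agent.Etbc.H211.C1prime

section

variable {A : Type*} [CommRing A] [IsDedekindDomain A] {K : Type*} [Field K] [Algebra A K] [IsFractionRing A K]
  (v : HeightOneSpectrum A)

/-- density of `A` in `O_v` -/
theorem exists_sub_lt (x : v.adicCompletionIntegers K) (n : ℕ) :
    ∃ a : A, Valued.v ((algebraMap A (v.adicCompletionIntegers K) a : v.adicCompletion K) - x) <
      WithZero.exp (-(n : ℤ)) := by
  obtain ⟨π, hπ⟩ := Groth.Agent.Etbc.H222.AdicLF.exists_unif (K := K) v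
  have hπ0 : (π : v.adicCompletion K) ≠ 0 := by
    intro h
    rw [h, map_zero] at hπ
    exact WithZero.exp_ne_zero hπ.symm
  have hπn : Valued.v ((π : v.adicCompletion K) ^ n) = WithZero.exp (-(n : ℤ)) := by
    rw [map_pow, hπ, ← WithZero.exp_nsmul]
    simp
  obtain ⟨y, hy⟩ : ∃ y : K, Valued.v ((y : v.adicCompletion K) - x) < WithZero.exp (-(n : ℤ)) := by
    have h1 := HeightOneSpectrum.denseRange_algebraMap (K := K) v
    have h2 : IsOpen {y : v.adicCompletion K | Valued.v (y - (x : v.adicCompletion K)) <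
        Valued.v ((π : v.adicCompletion K) ^ n)} := by
      have h1 := Valued.isOpen_ball (v.adicCompletion K)
        ((Valued.v : Valuation (v.adicCompletion K) _).restrict ((π : v.adicCompletion K) ^ n))
      have h2 := h1.preimage (continuous_sub_right (x : v.adicCompletion K))
      convert h2 using 1
      ext y
      simp only [Set.mem_ofPred_eq, Set.mem_preimage, Valuation.restrict_lt_iff]
    have h3 : (x : v.adicCompletion K) ∈ {y : v.adicCompletion K |
        Valued.v (y - (x : v.adicCompletion K)) < Valued.v ((π : v.adicCompletion K) ^ n)} := by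
      change Valued.v ((x : v.adicCompletion K) - x) < _
      rw [sub_self, map_zero]
      exact (Valuation.pos_iff _).2 (pow_ne_zero _ hπ0)
    obtain ⟨y, hy⟩ := h1.exists_mem_open h2 ⟨_, h3⟩
    refine ⟨y, ?_⟩
    rw [← hπn]
    exact hy
  have hle : WithZero.exp (-(n : ℤ)) ≤ (1 : WithZero (Multiplicative ℤ)) := by
    rw [← WithZero.exp_zero]
    exact WithZero.exp_le_exp.2 (by simp)
  have hy1 : v.valuation K y ≤ 1 := by
    rw [← HeightOneSpectrum.valuedAdicCompletion_eq_valuation']
    have h2 : (y : v.adicCompletion K) = (y - x) + x := by ring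
    rw [h2]
    exact (Valuation.map_add _ _ _).trans (max_le (hy.le.trans hle) x.2)
  obtain ⟨a, ha⟩ := v.exists_valuation_sub_lt_of_integer hy1
    (Units.mk0 (WithZero.exp (-(n : ℤ))) WithZero.exp_ne_zero)
  refine ⟨a, ?_⟩
  change Valued.v (((algebraMap A K a : K) : v.adicCompletion K) - x) < _
  have h3 : ((algebraMap A K a : K) : v.adicCompletion K) - x =
      ((algebraMap A K a - y : K) : v.adicCompletion K) + (y - x) := by
    have e : ((algebraMap A K a : K) : v.adicCompletion K) =
        ((algebraMap A K a - y : K) : v.adicCompletion K) + y := by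
      rw [← HeightOneSpectrum.adicCompletion.coe_add, sub_add_cancel]
    rw [e]
    ring
  rw [h3]
  refine (Valuation.map_add _ _ _).trans_lt (max_lt ?_ hy)
  rw [HeightOneSpectrum.valuedAdicCompletion_eq_valuation']
  exact ha

/-- `#(O_v / r) = #(A / v ^ n)` if `v(r) = n`. -/
theorem card_quotient (r : A) (n : ℕ) (hr : v.intValuation r = WithZero.exp (-(n : ℤ))) :
    Nat.card (v.adicCompletionIntegers K ⧸
      Ideal.span {(algebraMap A (v.adicCompletionIntegers K) r : v.adicCompletionIntegers K)}) =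
      Nat.card (A ⧸ v.asIdeal ^ n) := by
  set R := v.adicCompletionIntegers K with hR
  set I : Ideal R := Ideal.span {algebraMap A R r} with hI
  have hrv : Valued.v ((algebraMap A R r : R) : v.adicCompletion K) = WithZero.exp (-(n : ℤ)) := by
    rw [HeightOneSpectrum.algebraMap_adicCompletionIntegers_apply,
      HeightOneSpectrum.valuedAdicCompletion_eq_valuation',
      HeightOneSpectrum.valuation_of_algebraMap, hr]
  have hr0 : ((algebraMap A R r : R) : v.adicCompletion K) ≠ 0 := by
    intro h
    rw [h, map_zero] at hrv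
    exact WithZero.exp_ne_zero hrv.symm
  have hmem : ∀ y : R, y ∈ I ↔ Valued.v (y : v.adicCompletion K) ≤ WithZero.exp (-(n : ℤ)) := by
    intro y
    rw [hI, Ideal.mem_span_singleton']
    constructor
    · rintro ⟨a, rfl⟩
      have ha : Valued.v (a : v.adicCompletion K) ≤ 1 := a.2
      have : ((a * algebraMap A R r : R) : v.adicCompletion K) = a * (algebraMap A R r : R) := rfl
      rw [this, map_mul, hrv]
      exact mul_le_of_le_one_left' ha
    · intro h
      refine ⟨⟨y / (algebraMap A R r : R), ?_⟩, ?_⟩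
      · rw [HeightOneSpectrum.mem_adicCompletionIntegers, map_div₀, hrv]
        exact div_le_one_of_le₀ h zero_le
      · apply Subtype.ext
        change (y : v.adicCompletion K) / _ * _ = y
        exact div_mul_cancel₀ _ hr0
  let φ : A →+* R ⧸ I := (Ideal.Quotient.mk I).comp (algebraMap A R)
  have hker : RingHom.ker φ = v.asIdeal ^ n := by
    ext a
    rw [RingHom.mem_ker]
    change Ideal.Quotient.mk I (algebraMap A R a) = 0 ↔ _
    rw [Ideal.Quotient.eq_zero_iff_mem, hmem, HeightOneSpectrum.algebraMap_adicCompletionIntegers_apply,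
      HeightOneSpectrum.valuedAdicCompletion_eq_valuation',
      HeightOneSpectrum.valuation_of_algebraMap, HeightOneSpectrum.intValuation_le_pow_iff_mem]
  have hsurj : Function.Surjective φ := by
    intro x
    obtain ⟨x, rfl⟩ := Ideal.Quotient.mk_surjective x
    obtain ⟨a, ha⟩ := exists_sub_lt v x n
    refine ⟨a, ?_⟩
    change Ideal.Quotient.mk I (algebraMap A R a) = _
    rw [Ideal.Quotient.eq, hmem]
    exact ha.le
  rw [← hker]
  exact (Nat.card_congr (RingHom.quotientKerEquivOfSurjective hsurj).toEquiv).symm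

end

section

variable (K : Type*) [Field K] [NumberField K]

/-- `∏_{v ∈ S} #(O_v / m) = m ^ [K : ℚ]` when `S` contains the places above `m`. -/
theorem prod_card_quotient (m : ℕ) (hm : m ≠ 0) (S : Finset (HeightOneSpectrum (𝓞 K)))
    (hS : ∀ v : HeightOneSpectrum (𝓞 K), (m : 𝓞 K) ∈ v.asIdeal → v ∈ S) :
    ∏ v ∈ S, Nat.card (v.adicCompletionIntegers K ⧸ Ideal.span {(m : v.adicCompletionIntegers K)}) =
      m ^ Module.finrank ℚ K := by
  classical
  have hm0 : (m : 𝓞 K) ≠ 0 := Nat.cast_ne_zero.2 hm
  have hI : (Ideal.span {(m : 𝓞 K)} : Ideal (𝓞 K)) ≠ 0 := by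
    rw [Ne, Ideal.zero_eq_bot, Ideal.span_singleton_eq_bot]
    exact hm0
  have h1 : ∀ v : HeightOneSpectrum (𝓞 K),
      Nat.card (v.adicCompletionIntegers K ⧸ Ideal.span {(m : v.adicCompletionIntegers K)}) =
      Ideal.absNorm (v.maxPowDividing (Ideal.span {(m : 𝓞 K)})) := by
    intro v
    have h := card_quotient (K := K) v (m : 𝓞 K)
      ((Associates.mk v.asIdeal).count (Associates.mk (Ideal.span {(m : 𝓞 K)} : Ideal (𝓞 K))).factors)
      (HeightOneSpectrum.intValuation_if_neg v hm0)
    rw [map_natCast] at h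
    rw [h]
    rfl
  rw [Finset.prod_congr rfl fun v _ => h1 v, ← map_prod]
  have h2 : ∏ v ∈ S, v.maxPowDividing (Ideal.span {(m : 𝓞 K)}) = Ideal.span {(m : 𝓞 K)} := by
    rw [← finprod_eq_prod_of_mulSupport_subset, Ideal.finprod_heightOneSpectrum_factorization hI]
    intro v hv
    rw [Finset.mem_coe]
    apply hS
    rw [← HeightOneSpectrum.intValuation_lt_one_iff_mem]
    refine lt_of_le_of_ne (v.intValuation_le_one _) fun h => ?_
    rw [HeightOneSpectrum.intValuation_if_neg v hm0, ← WithZero.exp_zero] at h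
    have h3 := WithZero.exp_injective h
    rw [neg_eq_zero] at h3
    have h4 : (Associates.mk v.asIdeal).count (Associates.mk (Ideal.span {(m : 𝓞 K)} : Ideal (𝓞 K))).factors = 0 := by
      exact_mod_cast h3
    apply hv
    change v.asIdeal ^ (Associates.mk v.asIdeal).count
      (Associates.mk (Ideal.span {(m : 𝓞 K)} : Ideal (𝓞 K))).factors = 1
    rw [h4, pow_zero]
  rw [h2, Ideal.absNorm_span_natCast, RingOfIntegers.rank]

open Groth.Agent.Etbc.H226 in
/-- **Product of the local indices.** -/
theorem C1prime (ℓ : ℕ) [Fact ℓ.Prime]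
    (hζ : ∃ ζ : K, IsPrimitiveRoot ζ ℓ) (S : Finset (HeightOneSpectrum (𝓞 K)))
    (hS : ∀ v : HeightOneSpectrum (𝓞 K), (ℓ : 𝓞 K) ∈ v.asIdeal → v ∈ S) :
    ∏ v ∈ S, IndexQuot.idx ℓ (Additive (v.adicCompletion K)ˣ) =
      ℓ ^ (2 * S.card + Module.finrank ℚ K) := by
  have hℓ : ℓ ≠ 0 := (Fact.out : ℓ.Prime).ne_zero
  have h1 : ∀ v : HeightOneSpectrum (𝓞 K), IndexQuot.idx ℓ (Additive (v.adicCompletion K)ˣ) =
      ℓ ^ 2 * Nat.card (v.adicCompletionIntegers K ⧸ Ideal.span {(ℓ : v.adicCompletionIntegers K)}) := by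
    intro v
    have := Groth.Agent.Etbc.H222.AdicLF.henselian (K := K) v
    have := Groth.Agent.Etbc.H222.AdicLF.finite_residueField (K := K) v
      (v.asIdeal.finiteQuotientOfFreeOfNeBot v.ne_bot)
    have : CharZero (v.adicCompletion K) :=
      charZero_of_injective_algebraMap (algebraMap K (v.adicCompletion K)).injective
    obtain ⟨ζ, hζ⟩ := hζ
    exact Groth.Agent.Etbc.H197.C1.C1 (v.adicCompletionIntegers K) (v.adicCompletion K) ℓ
      ⟨algebraMap K _ ζ, hζ.map_of_injective (algebraMap K (v.adicCompletion K)).injective⟩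
  rw [Finset.prod_congr rfl fun v _ => h1 v, Finset.prod_mul_distrib,
    prod_card_quotient K ℓ hℓ S hS, Finset.prod_const, ← pow_mul, ← pow_add]

/-- The form for a set. -/
theorem C1prime' (ℓ : ℕ) [Fact ℓ.Prime]
    (hζ : ∃ ζ : K, IsPrimitiveRoot ζ ℓ) (S : Set (HeightOneSpectrum (𝓞 K))) (hfin : S.Finite)
    (hS : ∀ v : HeightOneSpectrum (𝓞 K), (ℓ : 𝓞 K) ∈ v.asIdeal → v ∈ S) :
    ∏ v ∈ hfin.toFinset, Groth.Agent.Etbc.H226.IndexQuot.idx ℓ (Additive (v.adicCompletion K)ˣ) =
      ℓ ^ (2 * S.ncard + Module.finrank ℚ K) := by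
  rw [C1prime K ℓ hζ hfin.toFinset (fun v hv => hfin.mem_toFinset.2 (hS v hv)),
    Set.ncard_eq_toFinset_card S hfin]

end

end Groth.Agent.Etbc.H211.C1prime
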