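import Groth.Prelude.Def_Dix
import Groth.Agent.EtpbcB.TorsionBasic
import Groth.Agent.Etrest.TorsEt

/-!
# ℓ-primary torsion sheaves: closure properties

Subobjects, quotients, extensions, isomorphisms, colimits, sheaves killed by a power of `ℓ`.
-/

set_option autoImplicit false
universe u v w

open CategoryTheory CategoryTheory.Limits AlgebraicGeometry Opposite

namespace Groth.Agent.Etbc.H211.PrimOps

variable {X : Scheme.{u}} {ℓ : ℕ}

theorem injective_app_of_mono {F G : EtCoh.Ab X} (φ : F ⟶ G) [Mono φ] (V : X.Etale) :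
    Function.Injective (φ.hom.app (op V)) := by
  have : Mono φ.hom := inferInstanceAs (Mono ((sheafToPresheaf _ _).map φ))
  have : Mono (φ.hom.app (op V)) := inferInstance
  exact (AddCommGrpCat.mono_iff_injective _).1 this

/-- Subsheaves of `ℓ`-primary torsion sheaves are `ℓ`-primary torsion. -/
theorem isPrimaryTorsion_of_mono {F G : EtCoh.Ab X} (φ : F ⟶ G) [Mono φ]
    (hG : _root_.Dix.IsPrimaryTorsion ℓ G) : _root_.Dix.IsPrimaryTorsion ℓ F := by
  intro U s x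
  obtain ⟨V, g, hv, k, h0⟩ := hG U (φ.hom.app (op U) s) x
  refine ⟨V, g, hv, k, ?_⟩
  apply injective_app_of_mono φ V
  rw [map_zero, map_nsmul]
  have : φ.hom.app (op V) (F.obj.map g.op s) = G.obj.map g.op (φ.hom.app (op U) s) :=
    ConcreteCategory.congr_hom (φ.hom.naturality g.op) s
  rw [this, h0]

/-- Quotients of `ℓ`-primary torsion sheaves are `ℓ`-primary torsion. -/
theorem isPrimaryTorsion_of_epi {F G : EtCoh.Ab X} (φ : F ⟶ G) [Epi φ]
    (hF : _root_.Dix.IsPrimaryTorsion ℓ F) : _root_.Dix.IsPrimaryTorsion ℓ G := by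
  intro U s x
  have hs : Sheaf.IsLocallySurjective φ := (Sheaf.isLocallySurjective_iff_epi' (φ := φ)).2 inferInstance
  have hs' : Presheaf.imageSieve φ.hom s ∈ X.smallEtaleTopology U := hs.imageSieve_mem s
  rw [Groth.Agent.Etbase.EtSite.mem_iff] at hs'
  obtain ⟨V, g, v, ⟨t, ht⟩, hv⟩ := hs' x
  obtain ⟨W, h, ⟨w, hw⟩, k, h0⟩ := hF V t v
  refine ⟨W, h ≫ g, ⟨w, ?_⟩, k, ?_⟩
  · change (h ≫ g).left w = x
    change h.left w = v at hw
    rw [← hv, ← hw]
    rfl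
  · have : G.obj.map (h ≫ g).op s = φ.hom.app (op W) (F.obj.map h.op t) := by
      rw [op_comp, G.obj.map_comp]
      change G.obj.map h.op (G.obj.map g.op s) = _
      rw [← ht]
      exact (ConcreteCategory.congr_hom (φ.hom.naturality h.op) t).symm
    rw [this, ← map_nsmul, h0, map_zero]

theorem isPrimaryTorsion_of_iso {F G : EtCoh.Ab X} (e : F ≅ G)
    (hF : _root_.Dix.IsPrimaryTorsion ℓ F) : _root_.Dix.IsPrimaryTorsion ℓ G :=
  isPrimaryTorsion_of_epi e.hom hF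

theorem isPrimaryTorsion_of_isZero {F : EtCoh.Ab X} (hF : IsZero F) :
    _root_.Dix.IsPrimaryTorsion ℓ F := by
  intro U s x
  refine ⟨U, 𝟙 U, ⟨x, rfl⟩, 0, ?_⟩
  have h : (𝟙 F : F ⟶ F) = 0 := hF.eq_of_src _ _
  have h2 := congrArg (fun t : F ⟶ F => t.hom.app (op U) (F.obj.map (𝟙 U : U ⟶ U).op s)) h
  have h3 : F.obj.map (𝟙 U : U ⟶ U).op s = 0 := h2
  rw [h3, smul_zero]

/-- Exactness on sections: for a short exact sequence `0 → F → G → H`, a section of `G` killed in `H`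
comes from `F`. -/
theorem exists_section_of_exact {F G H : EtCoh.Ab X} (f : F ⟶ G) (g : G ⟶ H) (w : f ≫ g = 0)
    (hex : (ShortComplex.mk f g w).Exact) [Mono f] (U : X.Etale) (s : EtCoh.sect G U)
    (hs : g.hom.app (op U) s = 0) : ∃ t : EtCoh.sect F U, f.hom.app (op U) t = s := by
  let T := sheafToPresheaf X.smallEtaleTopology AddCommGrpCat.{u + 1} ⋙ (evaluation _ _).obj (op U)
  have hT : PreservesFiniteLimits T := inferInstance
  have hAdd : T.Additive := inferInstance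
  have h0 : ∀ (S : ShortComplex (EtCoh.Ab X)), S.Exact ∧ Mono S.f →
      (S.map T).Exact ∧ Mono (T.map S.f) :=
    ((Functor.preservesFiniteLimits_tfae T).out 3 1).1 hT
  have h1 : ((ShortComplex.mk f g w).map T).Exact := by
    exact (h0 (ShortComplex.mk f g w) ⟨hex, inferInstance⟩).1
  rw [ShortComplex.ab_exact_iff] at h1
  exact h1 s hs

/-- Extensions of `ℓ`-primary torsion sheaves are `ℓ`-primary torsion. -/
theorem isPrimaryTorsion_of_exact {F G H : EtCoh.Ab X} (f : F ⟶ G) (g : G ⟶ H) (w : f ≫ g = 0)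
    (hex : (ShortComplex.mk f g w).Exact) [Mono f]
    (hF : _root_.Dix.IsPrimaryTorsion ℓ F) (hH : _root_.Dix.IsPrimaryTorsion ℓ H) :
    _root_.Dix.IsPrimaryTorsion ℓ G := by
  intro U s x
  obtain ⟨V, a, ⟨v, hv⟩, k, h0⟩ := hH U (g.hom.app (op U) s) x
  have h1 : g.hom.app (op V) ((ℓ ^ k) • G.obj.map a.op s) = 0 := by
    rw [map_nsmul]
    have : g.hom.app (op V) (G.obj.map a.op s) = H.obj.map a.op (g.hom.app (op U) s) :=
      ConcreteCategory.congr_hom (g.hom.naturality a.op) s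
    rw [this, h0]
  obtain ⟨t, ht⟩ := exists_section_of_exact f g w hex V _ h1
  obtain ⟨W, b, ⟨z, hz⟩, m, h2⟩ := hF V t v
  refine ⟨W, b ≫ a, ⟨z, ?_⟩, m + k, ?_⟩
  · change (b ≫ a).left z = x
    change b.left z = v at hz
    change a.left v = x at hv
    rw [← hv, ← hz]
    rfl
  · have e1 : G.obj.map (b ≫ a).op s = G.obj.map b.op (G.obj.map a.op s) := by
      rw [op_comp, G.obj.map_comp]
      rfl
    have e2 : G.obj.map b.op ((ℓ ^ k) • G.obj.map a.op s) = f.hom.app (op W) (F.obj.map b.op t) := by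
      rw [← ht]
      exact (ConcreteCategory.congr_hom (f.hom.naturality b.op) t).symm
    rw [e1, pow_add, mul_smul, ← map_nsmul (G.obj.map b.op).hom (ℓ ^ k)]
    refine (congrArg (fun z => (ℓ ^ m) • z) e2).trans ?_
    rw [← map_nsmul, h2, map_zero]

/-- Middle term of an exact sequence `F → G → H`. -/
theorem isPrimaryTorsion_of_exact' {F G H : EtCoh.Ab X} (f : F ⟶ G) (g : G ⟶ H) (w : f ≫ g = 0)
    (hex : (ShortComplex.mk f g w).Exact)
    (hF : _root_.Dix.IsPrimaryTorsion ℓ F) (hH : _root_.Dix.IsPrimaryTorsion ℓ H) :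
    _root_.Dix.IsPrimaryTorsion ℓ G := by
  have h1 : _root_.Dix.IsPrimaryTorsion ℓ (kernel g) := by
    have : Epi (kernel.lift g f w) := (ShortComplex.exact_iff_epi_kernel_lift _).1 hex
    exact isPrimaryTorsion_of_epi (kernel.lift g f w) hF
  exact isPrimaryTorsion_of_exact (kernel.ι g) g (kernel.condition g)
    (ShortComplex.exact_kernel g) h1 hH

theorem isPrimaryTorsion_of_shortExact {S : ShortComplex (EtCoh.Ab X)} (hS : S.Exact)
    (h₁ : _root_.Dix.IsPrimaryTorsion ℓ S.X₁) (h₃ : _root_.Dix.IsPrimaryTorsion ℓ S.X₃) :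
    _root_.Dix.IsPrimaryTorsion ℓ S.X₂ :=
  isPrimaryTorsion_of_exact' S.f S.g S.zero hS h₁ h₃

theorem isPrimaryTorsion_biprod {F G : EtCoh.Ab X} (hF : _root_.Dix.IsPrimaryTorsion ℓ F)
    (hG : _root_.Dix.IsPrimaryTorsion ℓ G) : _root_.Dix.IsPrimaryTorsion ℓ (F ⊞ G) := by
  refine isPrimaryTorsion_of_exact' (biprod.inl : F ⟶ F ⊞ G) (biprod.snd : F ⊞ G ⟶ G)
    biprod.inl_snd ?_ hF hG
  exact (ShortComplex.Splitting.ofHasBinaryBiproduct F G).exact

theorem isPrimaryTorsion_of_killedBy_pow {k : ℕ} {F : EtCoh.Ab X} (hF : EtCoh.KilledBy (ℓ ^ k) F) :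
    _root_.Dix.IsPrimaryTorsion ℓ F :=
  fun U _ x => ⟨U, 𝟙 U, ⟨x, rfl⟩, k, hF U _⟩

theorem isPrimaryTorsion_of_killedBy {F : EtCoh.Ab X} (hF : EtCoh.KilledBy ℓ F) :
    _root_.Dix.IsPrimaryTorsion ℓ F :=
  isPrimaryTorsion_of_killedBy_pow (k := 1) (by rwa [pow_one])

/-- Colimits of `ℓ`-primary torsion sheaves are `ℓ`-primary torsion. -/
theorem isPrimaryTorsion_of_isColimit {J : Type w} [Category J] {G : J ⥤ EtCoh.Ab X}
    [HasColimitsOfShape J AddCommGrpCat.{u + 1}] {c : Cocone G} (hc : IsColimit c)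
    (h : ∀ j, _root_.Dix.IsPrimaryTorsion ℓ (G.obj j)) : _root_.Dix.IsPrimaryTorsion ℓ c.pt := by
  intro U s x
  obtain ⟨V, g, ⟨v, hv⟩, hs⟩ := Groth.Agent.Etrest.Coprod.sheaf_mem_closure hc U s x
  have key : ∀ t ∈ AddSubgroup.closure (⋃ i, Set.range ((c.ι.app i).hom.app (op V)).hom),
      ∃ (W : X.Etale) (k : W ⟶ V), (∃ w : W.left, k.left.base w = v) ∧
        ∃ m : ℕ, (ℓ ^ m) • (c.pt.obj.map k.op t) = 0 := by
    intro t ht
    induction ht using AddSubgroup.closure_induction with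
    | mem t ht =>
      obtain ⟨i, y, rfl⟩ := Set.mem_iUnion.1 ht
      obtain ⟨W, k, hw, m, hk⟩ := h i V y v
      refine ⟨W, k, hw, m, ?_⟩
      have h1 : (c.ι.app i).hom.app (op W) ((G.obj i).obj.map k.op y) =
        c.pt.obj.map k.op ((c.ι.app i).hom.app (op V) y) := NatTrans.naturality_apply (c.ι.app i).hom k.op y
      change (ℓ ^ m) • (c.pt.obj.map k.op ((c.ι.app i).hom.app (op V) y)) = 0
      rw [← h1, ← map_nsmul, hk, map_zero]
    | zero => exact ⟨V, 𝟙 V, ⟨v, rfl⟩, 0, by rw [map_zero, smul_zero]⟩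
    | add a b _ _ ha hb =>
      obtain ⟨W₁, k₁, ⟨w₁, hw₁⟩, m₁, h₁⟩ := ha
      obtain ⟨W₂, k₂, ⟨w₂, hw₂⟩, m₂, h₂⟩ := hb
      obtain ⟨W, p, q, w, hpq, hwp, hwq⟩ := Groth.Agent.Etbase.EtSite.exists_pullback k₁ k₂ w₁ w₂ (hw₁.trans hw₂.symm)
      refine ⟨W, p ≫ k₁, ⟨w, ?_⟩, m₁ + m₂, ?_⟩
      · change (p.left ≫ k₁.left).base w = v
        rw [Scheme.Hom.comp_base, TopCat.comp_app, hwp, hw₁]
      · have ea : (ℓ ^ m₁) • c.pt.obj.map (p ≫ k₁).op a = 0 := by
          have e : c.pt.obj.map (p ≫ k₁).op a = c.pt.obj.map p.op (c.pt.obj.map k₁.op a) :=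
            (Groth.Agent.Etrest.Site0.map_map_apply c.pt k₁ p a).symm
          rw [e, ← map_nsmul, h₁, map_zero]
        have eb : (ℓ ^ m₂) • c.pt.obj.map (p ≫ k₁).op b = 0 := by
          have e : c.pt.obj.map (p ≫ k₁).op b = c.pt.obj.map q.op (c.pt.obj.map k₂.op b) := by
            rw [hpq]
            exact (Groth.Agent.Etrest.Site0.map_map_apply c.pt k₂ q b).symm
          rw [e, ← map_nsmul, h₂, map_zero]
        rw [map_add, smul_add, pow_add, mul_smul _ _ (c.pt.obj.map (p ≫ k₁).op b), eb, smul_zero,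
          mul_comm, mul_smul, ea, smul_zero, add_zero]
    | neg a _ ha =>
      obtain ⟨W, k, hw, m, hk⟩ := ha
      refine ⟨W, k, hw, m, ?_⟩
      rw [map_neg, smul_neg, hk, neg_zero]
  obtain ⟨W, k, ⟨w, hw⟩, m, hk⟩ := key _ hs
  refine ⟨W, k ≫ g, ⟨w, ?_⟩, m, ?_⟩
  · change (k.left ≫ g.left).base w = x
    rw [Scheme.Hom.comp_base, TopCat.comp_app, hw, hv]
  · have e : c.pt.obj.map (k ≫ g).op s = c.pt.obj.map k.op (c.pt.obj.map g.op s) :=
      (Groth.Agent.Etrest.Site0.map_map_apply c.pt g k s).symm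
    rw [e]
    exact hk

/-- The constant sheaf of an abelian group killed by a power of `ℓ`. -/
theorem isPrimaryTorsion_const (M : Type) [AddCommGroup M] (k : ℕ) (h : ∀ m : M, (ℓ ^ k) • m = 0) :
    _root_.Dix.IsPrimaryTorsion ℓ (EtCoh.const X M) :=
  isPrimaryTorsion_of_killedBy_pow (Groth.Agent.EtpbcB.TorsionBasic.killedBy_const M (ℓ ^ k) h)

/-- `cd(X) ≤ d` for all torsion sheaves implies `cd_ℓ(X) ≤ d`. -/
theorem cohDimLEAt_of_cohDimLE (hℓ : 0 < ℓ) {d : ℕ} (h : EtCoh.CohDimLE X d) :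
    _root_.Dix.CohDimLEAt X ℓ d := by
  intro F hF q hq
  refine h F (fun U s x => ?_) q hq
  obtain ⟨V, g, hv, k, hk⟩ := hF U s x
  exact ⟨V, g, hv, isOfFinAddOrder_iff_nsmul_eq_zero.2 ⟨ℓ ^ k, pow_pos hℓ k, hk⟩⟩

theorem cohDimLEAt_mono {d e : ℕ} (hde : d ≤ e) (h : _root_.Dix.CohDimLEAt X ℓ d) :
    _root_.Dix.CohDimLEAt X ℓ e := fun F hF q hq => h F hF q (lt_of_le_of_lt hde hq)

end Groth.Agent.Etbc.H211.PrimOps
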