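import Groth.Agent.Etbc.H222.AdicLF
import Groth.Agent.Etbc.H197.PowHensel
import Mathlib.RingTheory.DedekindDomain.Ideal.Lemmas
import Mathlib.RingTheory.Localization.Integer

/-!
# Weak approximation at finite places

* `exists_approx`: simultaneous approximation of elements `k v` of the fraction field of a Dedekind domain at
  finitely many places;
* `exists_pow_of_near_one`: an element of `K_v` close to `1` is an `n`-th power;
* `exists_weak_approx`: for a finite set `S` of finite places of a number field `K` and `x v ∈ K_vˣ`, there is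
  `y ∈ Kˣ` with `y = x v * c ^ n`, `c ∈ K_vˣ`, for all `v ∈ S`.
-/

set_option autoImplicit false
universe u
open NumberField IsDedekindDomain Filter

namespace Groth.Agent.Etbc.H211.WeakApprox

section

variable {A : Type*} [CommRing A] [IsDedekindDomain A] (K : Type*) [Field K] [Algebra A K] [IsFractionRing A K]

open Classical in
/-- Simultaneous approximation at finitely many places, with arbitrary precisions. -/
theorem exists_approx (S : Finset (HeightOneSpectrum A)) (k : HeightOneSpectrum A → K)
    (γ : HeightOneSpectrum A → WithZero (Multiplicative ℤ)) (hγ : ∀ v ∈ S, γ v ≠ 0) :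
    ∃ y : K, ∀ v ∈ S, v.valuation K (y - k v) < γ v := by
  obtain ⟨b, hb⟩ := IsLocalization.exist_integer_multiples (nonZeroDivisors A) S k
  have hb' : ∀ v ∈ S, ∃ a : A, algebraMap A K a = algebraMap A K b * k v := by
    intro v hv
    obtain ⟨a, ha⟩ := hb v hv
    exact ⟨a, by rw [ha, Algebra.smul_def]⟩
  choose! a ha using hb'
  have hb0 : algebraMap A K (b : A) ≠ 0 := by
    simp
  have hex : ∀ v ∈ S, ∃ n : ℕ, WithZero.exp (-(n : ℤ)) < γ v * v.valuation K (algebraMap A K b) := by
    intro v hv
    have h0 : γ v * v.valuation K (algebraMap A K b) ≠ 0 :=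
      mul_ne_zero (hγ v hv) ((Valuation.ne_zero_iff _).2 hb0)
    exact WithZero.exists_exp_neg_natCast_lt h0
  choose! e he using hex
  obtain ⟨c, hc⟩ := IsDedekindDomain.exists_forall_sub_mem_ideal (s := S)
    (fun v : HeightOneSpectrum A => v.asIdeal) e (fun v _ => v.prime)
    (fun v _ w _ hvw h => hvw (HeightOneSpectrum.ext h)) (fun v => a v.1)
  refine ⟨algebraMap A K c / algebraMap A K b, fun v hv => ?_⟩
  have h1 : algebraMap A K c / algebraMap A K b - k v =
      algebraMap A K (c - a v) / algebraMap A K b := by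
    rw [map_sub, ha v hv]
    field_simp
  rw [h1, map_div₀, div_lt_iff₀ ((Valuation.pos_iff _).2 hb0)]
  refine lt_of_le_of_lt ?_ (he v hv)
  rw [HeightOneSpectrum.valuation_of_algebraMap, HeightOneSpectrum.intValuation_le_pow_iff_mem]
  exact hc v hv

variable {K}

/-- An element of `K_v` close enough to `1` is an `n`-th power. -/
theorem exists_pow_of_near_one (v : HeightOneSpectrum A) (n : ℕ) (hn : (n : K) ≠ 0) :
    ∃ γ : WithZero (Multiplicative ℤ), γ ≠ 0 ∧ γ ≤ 1 ∧ ∀ u : v.adicCompletion K,
      Valued.v (u - 1) < γ → ∃ c : (v.adicCompletion K)ˣ, (c : v.adicCompletion K) ^ n = u := by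
  have := Groth.Agent.Etbc.H222.AdicLF.henselian (K := K) v
  obtain ⟨π, hπ⟩ := Groth.Agent.Etbc.H222.AdicLF.exists_unif (K := K) v
  have hπm : π ∈ IsLocalRing.maximalIdeal (v.adicCompletionIntegers K) := by
    rw [Groth.Agent.Etbc.H222.AdicLF.mem_max_iff, hπ, ← WithZero.exp_zero]
    exact WithZero.exp_lt_exp.2 (by norm_num)
  have hn' : ((n : v.adicCompletionIntegers K) : v.adicCompletion K) ≠ 0 := by
    intro h
    apply hn
    have h1 : ((n : K) : v.adicCompletion K) = 0 := by
      rw [← h]
      push_cast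
      exact map_natCast (algebraMap K (v.adicCompletion K)) n
    exact (algebraMap K (v.adicCompletion K)).injective (h1.trans (map_zero _).symm)
  have hπ0 : (π : v.adicCompletion K) ≠ 0 := by
    intro h
    rw [h, map_zero] at hπ
    exact WithZero.exp_ne_zero hπ.symm
  set z : v.adicCompletionIntegers K := (n : v.adicCompletionIntegers K) ^ 2 * π with hz
  have hz0 : (z : v.adicCompletion K) ≠ 0 := by
    rw [hz]
    push_cast
    exact mul_ne_zero (pow_ne_zero _ (by simpa using hn')) hπ0
  refine ⟨Valued.v (z : v.adicCompletion K), (Valuation.ne_zero_iff _).2 hz0, z.2, fun u hu => ?_⟩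
  have hw : Valued.v ((u - 1) / (z : v.adicCompletion K)) ≤ (1 : WithZero (Multiplicative ℤ)) := by
    rw [map_div₀]
    exact div_le_one_of_le₀ hu.le zero_le
  obtain ⟨t, ht, -⟩ := Groth.Agent.Etbc.H197.PowHensel.exists_pow_eq n hπm
    (⟨(u - 1) / (z : v.adicCompletion K), hw⟩ : v.adicCompletionIntegers K)
  have h2 : ((1 + n * π * t : v.adicCompletionIntegers K) : v.adicCompletion K) ^ n = u := by
    have h3 := congrArg (fun x : v.adicCompletionIntegers K => (x : v.adicCompletion K)) ht
    have h4 : (((1 + (n : v.adicCompletionIntegers K) ^ 2 * π *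
        (⟨(u - 1) / (z : v.adicCompletion K), hw⟩ : v.adicCompletionIntegers K) :
          v.adicCompletionIntegers K)) : v.adicCompletion K) = 1 + z * ((u - 1) / z) := by
      rw [← hz]
      rfl
    have h5 : 1 + (z : v.adicCompletion K) * ((u - 1) / z) = u := by
      rw [mul_div_cancel₀ _ hz0]
      ring
    rw [← h5, ← h4, ← h3]
    rfl
  by_cases hu0 : n = 0
  · subst hu0
    refine ⟨1, ?_⟩
    rw [← h2]
    simp
  · have hc0 : ((1 + n * π * t : v.adicCompletionIntegers K) : v.adicCompletion K) ≠ 0 := by
      intro h0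
      rw [h0, zero_pow hu0] at h2
      rw [← h2, zero_sub, Valuation.map_neg, map_one] at hu
      exact absurd (lt_of_lt_of_le hu z.2) (lt_irrefl _)
    exact ⟨Units.mk0 _ hc0, h2⟩

/-- **Weak approximation** modulo `n`-th powers. -/
theorem exists_weak_approx' (n : ℕ) (hn : (n : K) ≠ 0) (S : Finset (HeightOneSpectrum A))
    (x : ∀ v : HeightOneSpectrum A, (v.adicCompletion K)ˣ) :
    ∃ y : Kˣ, ∀ v ∈ S, ∃ c : (v.adicCompletion K)ˣ,
      Units.map (algebraMap K (v.adicCompletion K) : K →* v.adicCompletion K) y = x v * c ^ n := by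
  classical
  choose γ hγ0 hγ1 hγ using fun v : HeightOneSpectrum A => exists_pow_of_near_one (K := K) v n hn
  -- approximate `x v` by elements of `K`
  have happ : ∀ v : HeightOneSpectrum A, ∃ k : K,
      Valued.v ((k : v.adicCompletion K) - x v) < γ v * Valued.v (x v : v.adicCompletion K) := by
    intro v
    have hne : γ v * Valued.v (x v : v.adicCompletion K) ≠ 0 :=
      mul_ne_zero (hγ0 v) ((Valuation.ne_zero_iff _).2 (x v).ne_zero)
    obtain ⟨m, hm⟩ := WithZero.exists_exp_neg_natCast_lt hne
    obtain ⟨π, hπ⟩ := Groth.Agent.Etbc.H222.AdicLF.exists_unif (K := K) v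
    have h1 := HeightOneSpectrum.denseRange_algebraMap (K := K) v
    have h2 : IsOpen {y : v.adicCompletion K | Valued.v (y - (x v : v.adicCompletion K)) <
        Valued.v ((π : v.adicCompletion K) ^ m)} := by
      have h1 := Valued.isOpen_ball (v.adicCompletion K)
        ((Valued.v : Valuation (v.adicCompletion K) _).restrict ((π : v.adicCompletion K) ^ m))
      have h2 := h1.preimage (continuous_sub_right (x v : v.adicCompletion K))
      convert h2 using 1
      ext y
      simp only [Set.mem_ofPred_eq, Set.mem_preimage, Valuation.restrict_lt_iff]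
    have hπ0 : (π : v.adicCompletion K) ≠ 0 := by
      intro h
      rw [h, map_zero] at hπ
      exact WithZero.exp_ne_zero hπ.symm
    have h3 : (x v : v.adicCompletion K) ∈ {y : v.adicCompletion K |
        Valued.v (y - (x v : v.adicCompletion K)) < Valued.v ((π : v.adicCompletion K) ^ m)} := by
      change Valued.v ((x v : v.adicCompletion K) - x v) < _
      rw [sub_self, map_zero]
      exact (Valuation.pos_iff _).2 (pow_ne_zero _ hπ0)
    obtain ⟨y, hy⟩ := h1.exists_mem_open h2 ⟨_, h3⟩
    refine ⟨y, lt_trans hy ?_⟩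
    refine lt_of_eq_of_lt ?_ hm
    rw [map_pow, hπ, ← WithZero.exp_nsmul]
    simp
  choose k hk using happ
  obtain ⟨y, hy⟩ := exists_approx K S k (fun v => γ v * Valued.v (x v : v.adicCompletion K))
    (fun v _ => mul_ne_zero (hγ0 v) ((Valuation.ne_zero_iff _).2 (x v).ne_zero))
  have key : ∀ v ∈ S, Valued.v ((y : v.adicCompletion K) - x v) <
      γ v * Valued.v (x v : v.adicCompletion K) := by
    intro v hv
    have h1 : (y : v.adicCompletion K) - x v = ((y - k v : K) : v.adicCompletion K) + (k v - x v) := by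
      have e : (y : v.adicCompletion K) = ((y - k v : K) : v.adicCompletion K) + k v := by
        rw [← HeightOneSpectrum.adicCompletion.coe_add, sub_add_cancel]
      rw [e]
      ring
    rw [h1]
    refine (Valuation.map_add _ _ _).trans_lt (max_lt ?_ (hk v))
    rw [HeightOneSpectrum.valuedAdicCompletion_eq_valuation']
    exact hy v hv
  by_cases hS : S = ∅
  · subst hS
    exact ⟨1, by simp⟩
  have hy0 : y ≠ 0 := by
    rintro rfl
    obtain ⟨v, hv⟩ := Finset.nonempty_iff_ne_empty.2 hS
    have h1 := key v hv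
    have h2 : ((0 : K) : v.adicCompletion K) - x v = - (x v : v.adicCompletion K) := by
      rw [HeightOneSpectrum.adicCompletion.coe_zero, zero_sub]
    rw [h2, Valuation.map_neg] at h1
    have h3 : γ v * Valued.v (x v : v.adicCompletion K) ≤ Valued.v (x v : v.adicCompletion K) :=
      mul_le_of_le_one_left' (hγ1 v)
    exact absurd (lt_of_lt_of_le h1 h3) (lt_irrefl _)
  refine ⟨Units.mk0 y hy0, fun v hv => ?_⟩
  have hx0 : (x v : v.adicCompletion K) ≠ 0 := (x v).ne_zero
  obtain ⟨c, hc⟩ := hγ v ((y : v.adicCompletion K) / x v) (by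
    have h1 : (y : v.adicCompletion K) / x v - 1 = ((y : v.adicCompletion K) - x v) / x v := by
      field_simp
    rw [h1, map_div₀, div_lt_iff₀ ((Valuation.pos_iff _).2 hx0)]
    exact key v hv)
  refine ⟨c, Units.ext ?_⟩
  rw [Units.val_mul, Units.val_pow_eq_pow_val, hc, Units.coe_map, mul_div_cancel₀ _ hx0]
  rfl

end

/-- **Weak approximation** modulo `n`-th powers, for number fields. -/
theorem exists_weak_approx (K : Type*) [Field K] [NumberField K] (n : ℕ) (hn : n ≠ 0)
    (S : Finset (HeightOneSpectrum (𝓞 K))) (x : ∀ v : HeightOneSpectrum (𝓞 K), (v.adicCompletion K)ˣ) :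
    ∃ y : Kˣ, ∀ v ∈ S, ∃ c : (v.adicCompletion K)ˣ,
      Units.map (algebraMap K (v.adicCompletion K) : K →* v.adicCompletion K) y = x v * c ^ n :=
  exists_weak_approx' n (Nat.cast_ne_zero.2 hn) S x

end Groth.Agent.Etbc.H211.WeakApprox
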